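import Groth.Agent.Lib.AlgSpMor.SchImage.Main
import Groth.Agent.Lib.AlgSpMor.SchImage.Family
import Groth.Agent.Lib.AlgSpLimit.Points
import Groth.Agent.Lib.AlgSpLimit.Stage
import Groth.Agent.Lib.AlgSpMor.QC
import Mathlib.CategoryTheory.Filtered.Final
import Mathlib.AlgebraicGeometry.AffineTransitionLimit

/-! # A closed subspace of a limit is the limit of its scheme-theoretic images -/

set_option autoImplicit false
set_option linter.style.haveILetI false
set_option backward.isDefEq.respectTransparency false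
set_option backward.isDefEq.respectTransparency.types false

universe u

open CategoryTheory CategoryTheory.Limits AlgebraicGeometry
open AlgSp (Sp yon RepWith IsAlgSpace Points IsQuasiCompactSp IsAffineMor)
open Groth.Agent.Lib Groth.Agent.Lib.AlgSpace Groth.Agent.Lib.AlgSpMor.SchImage

namespace Groth.Agent.H8.ImageLimit.Main

variable {S : Scheme.{u}}

/-- Factoring through the closed subscheme of an ideal of an affine scheme, on global functions. -/
theorem le_ker_iff_appTop {T A : Scheme.{u}} [IsAffine T] [IsAffine A] (I : T.IdealSheafData)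
    (b : A ⟶ T) :
    I ≤ b.ker ↔ ∀ r ∈ I.ideal ⟨⊤, isAffineOpen_top T⟩, b.appTop r = 0 := by
  constructor
  · intro h r hr
    have h1 := h ⟨⊤, isAffineOpen_top T⟩ hr
    rw [Scheme.Hom.ker_apply] at h1
    exact h1
  · intro h
    refine Scheme.IdealSheafData.le_of_isAffine fun r hr => ?_
    rw [Scheme.Hom.ker_apply]
    exact h r hr

/-- A closed subscheme ideal contained in the kernel, tested on affine opens. -/
theorem le_ker_of_affines {T A : Over S} (I : T.left.IdealSheafData) (b : A ⟶ T)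
    (h : ∀ (O : Over S) (c : O ⟶ A), IsAffine O.left → I ≤ (c ≫ b).left.ker) : I ≤ b.left.ker := by
  refine le_ker_of_family I (O := fun O : A.left.affineOpens => AlgSpMor.Topo.opensOver O.1)
    (fun O => AlgSpMor.Topo.opensOverι O.1) (fun O => inferInstanceAs (Etale O.1.ι)) (fun x => ?_) b
    fun O => h _ _ O.2
  obtain ⟨O, hO, hx, -⟩ := exists_isAffineOpen_mem_and_subset (X := A.left) (U := ⊤) (Set.mem_univ x)
  exact ⟨⟨O, hO⟩, ⟨x, hx⟩, rfl⟩

/-- A closed subspace of the limit of a system is the limit of its images. -/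
theorem nonempty_isLimit {J : Type u} [SmallCategory J] [IsCofiltered J] {DP : J ⥤ Sp S}
    (hP : ∀ j, IsAlgSpace (DP.obj j)) (hPa : ∀ j k (φ : j ⟶ k), IsAffineMor (DP.map φ))
    (j₀ : J) (hqc : IsQuasiCompactSp (DP.obj j₀)) {cP : Cone DP} (hcP : IsLimit cP)
    {X : Sp S} (hX : IsAlgSpace X) (k : X ⟶ cP.pt) (hk : RepWith @IsClosedImmersion k)
    {DX : J ⥤ Sp S} (hDX : ∀ j, IsAlgSpace (DX.obj j)) (ε : DX ⟶ DP)
    (ξ : (Functor.const J).obj X ⟶ DX) (hξ : ∀ j, ξ.app j ≫ ε.app j = k ≫ cP.π.app j)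
    (himg : ∀ j, AlgSp.IsSchImage (ξ.app j ≫ ε.app j) (ε.app j)) :
    Nonempty (IsLimit (Cone.mk X ξ)) := by
  haveI : Mono k := mono_of_closedImmersion hk
  haveI : ∀ j, Mono (ε.app j) := fun j => mono_of_closedImmersion (himg j).1
  have hfqc : ∀ j, AlgSp.IsQuasiCompactMor (ξ.app j ≫ ε.app j) := fun j => by
    rw [hξ]
    refine AlgSpMor.QC.isQuasiCompactMor_of_repWith (repWith_comp
      (repWith_mono hk fun _ _ g (_ : IsClosedImmersion g) ↦ (inferInstance : QuasiCompact g))
      (repWith_mono (AlgSpMor.AffineDescent.repWith_of_isAffineMor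
        (AlgSpLimit.isAffineMor_π hPa hcP j))
        fun _ _ g (_ : IsAffineHom g) ↦ (inferInstance : QuasiCompact g)))
  have main : ∀ (U : Over S) (x : (yon S).obj U ⟶ cP.pt),
      (∀ j, ∃ a : (yon S).obj U ⟶ DX.obj j, a ≫ ε.app j = x ≫ cP.π.app j) →
        ∃ a : (yon S).obj U ⟶ X, a ≫ k = x := by
    intro U x hx
    obtain ⟨E, e, α, π, ⟨hlim⟩, hA, hea, -, sqπ, hα, hπe, hπs⟩ :=
      AlgSpLimit.exists_atlas_system hPa hcP j₀ (hP j₀) hqc
    haveI := hA
    haveI := hea
    haveI : ∀ j, IsAffine ((E ⋙ Over.forget S).obj j) := hA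
    haveI : IsAffine ((Over.forget S).mapCone e).pt := hea
    obtain ⟨I, hI⟩ := exists_cut hk x
    obtain ⟨Jπ, hJπ⟩ := exists_cut hk π
    suffices h : I ≤ (𝟙 U : U ⟶ U).left.ker by
      obtain ⟨a, ha⟩ := (hI U (𝟙 U)).2 h
      exact ⟨a, by rw [ha, CategoryTheory.Functor.map_id, Category.id_comp]⟩
    haveI := isLocallySurjective_of_etale hπe hπs
    obtain ⟨U', p, b', hp, hsq⟩ := exists_lift_of_isLocallySurjective π x
    obtain ⟨b, rfl⟩ := (yon S).map_surjective b'
    haveI : Sheaf.IsLocallySurjective ((yon S).map p) := isLocallySurjective_yon_map p hp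
    refine le_ker_of_cover I p (𝟙 U) ?_
    refine (hI U' (p ≫ 𝟙 U)).1 ?_
    have hkill : Jπ ≤ b.left.ker := by
      refine le_ker_of_affines Jπ b fun O c hO => ?_
      haveI := hO
      refine (le_ker_iff_appTop Jπ (c ≫ b).left).2 fun r hr => ?_
      obtain ⟨j, t, rfl⟩ := exists_appTop_π_eq_of_isAffine_of_isLimit
        (E ⋙ Over.forget S) ((Over.forget S).mapCone e) hlim r
      have ht : t ∈ (kerAt (ξ.app j.left ≫ ε.app j.left) (α j)).ideal ⟨⊤, isAffineOpen_top _⟩ := by
        let I₁ : (E.obj j).left.IdealSheafData := Scheme.IdealSheafData.ofIdealTop (Ideal.span {t})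
        have hI₁ : I₁ ≤ kerAt (ξ.app j.left ≫ ε.app j.left) (α j) := by
          refine Sees.le_kerAt fun A d a hd => le_ker_of_affines _ _ fun O' c' hO' => ?_
          haveI := hO'
          refine (le_ker_iff_appTop I₁ (c' ≫ d).left).2 fun s hs => ?_
          have hs' : s ∈ Ideal.span {t} := by simpa [I₁] using hs
          obtain ⟨z, rfl⟩ := Ideal.mem_span_singleton'.1 hs'
          obtain ⟨d', hd'⟩ := (yon S).map_surjective ((sqπ j).lift ((yon S).map (c' ≫ d))
            ((yon S).map c' ≫ a ≫ k)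
            (by rw [Functor.map_comp, Category.assoc, Category.assoc, Category.assoc, ← hd, hξ]))
          have h1 : d' ≫ e.π.app j = c' ≫ d :=
            (yon S).map_injective (by rw [Functor.map_comp, hd', (sqπ j).lift_fst])
          have h2 : Jπ ≤ d'.left.ker := (hJπ O' d').1
            ⟨(yon S).map c' ≫ a, by rw [hd', (sqπ j).lift_snd, Category.assoc]⟩
          have h3 := (le_ker_iff_appTop Jπ d'.left).1 h2 _ hr
          rw [map_mul]
          refine mul_eq_zero_of_right _ ?_
          rw [← h1, Over.comp_left, Scheme.Hom.comp_appTop]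
          exact h3
        refine hI₁ ⟨⊤, isAffineOpen_top _⟩ ?_
        simpa [I₁] using Ideal.mem_span_singleton_self t
      obtain ⟨a, ha⟩ := hx j.left
      haveI : IsAffine (E.obj j).left := hA j
      have hcut : Cut (ε.app j.left) (α j) (kerAt (ξ.app j.left ≫ ε.app j.left) (α j)) :=
        cut_kerAt hX (hP j.left) (hfqc j.left) (hDX j.left) (himg j.left) (hA j)
          (AlgSpMor.LocP.locP_of_repWith SourceDescent.Scheme.flat
            (repWith_mono (hα j).1 fun _ _ g (_ : Etale g) ↦ (inferInstance : Flat g)))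
      have h4 : kerAt (ξ.app j.left ≫ ε.app j.left) (α j) ≤ (c ≫ b ≫ e.π.app j).left.ker :=
        (hcut O (c ≫ b ≫ e.π.app j)).1 ⟨(yon S).map (c ≫ p) ≫ a, by
          rw [Category.assoc, ha, Functor.map_comp, Functor.map_comp, Functor.map_comp,
            Category.assoc, Category.assoc, Category.assoc, (sqπ j).w, reassoc_of% hsq]⟩
      have h5 := (le_ker_iff_appTop _ (c ≫ b ≫ e.π.app j).left).1 h4 t ht
      rw [← Category.assoc, Over.comp_left, Scheme.Hom.comp_appTop] at h5
      exact h5
    obtain ⟨a, ha⟩ := (hJπ U' b).2 hkill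
    exact ⟨a, by rw [ha, Category.comp_id]; exact hsq⟩
  have lift' : ∀ s : Cone DX, ∃ l : s.pt ⟶ X, ∀ j, l ≫ ξ.app j = s.π.app j := by
    intro s
    let z : s.pt ⟶ cP.pt := hcP.lift ((Cone.postcompose ε).obj s)
    have hz : ∀ j, z ≫ cP.π.app j = s.π.app j ≫ ε.app j := fun j => hcP.fac _ j
    let fs : pullback k z ⟶ s.pt := pullback.snd k z
    haveI : Mono fs := inferInstanceAs (Mono (pullback.snd k z))
    haveI : IsIso fs := isIso_of_yon _ fun U => ⟨fun a a' h => (cancel_mono fs).1 h, fun y => by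
      obtain ⟨a, ha⟩ := main U (y ≫ z) fun j => ⟨y ≫ s.π.app j, by
        rw [Category.assoc, Category.assoc, hz]⟩
      exact ⟨pullback.lift a y ha, pullback.lift_snd _ _ _⟩⟩
    refine ⟨inv fs ≫ pullback.fst k z, fun j => ?_⟩
    rw [← cancel_mono (ε.app j), Category.assoc, hξ, Category.assoc, ← Category.assoc _ k,
      pullback.condition, Category.assoc, hz, IsIso.inv_hom_id_assoc]
  choose lift hlift using lift'
  refine ⟨{ lift := lift, fac := fun s j => hlift s j, uniq := fun s m hm => ?_ }⟩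
  rw [← cancel_mono k]
  refine hcP.hom_ext fun j => ?_
  rw [Category.assoc, Category.assoc, ← hξ, ← Category.assoc, ← Category.assoc, hlift]
  exact congrArg (· ≫ ε.app j) (hm j)

end Groth.Agent.H8.ImageLimit.Main
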